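import Groth.Agent.H11Bertini.Jets
import Groth.Agent.H06Noether.FibreAlg

/-!
# Independent linear conditions over a base algebraic over affine space
-/

set_option autoImplicit false
set_option linter.style.haveILetI false

open scoped IntermediateField.algebraAdjoinAdjoin

universe u

namespace Groth.Agent.H11Bertini

open Groth.Agent.H05EGA4.An.Bertini

variable {k : Type u} [Field k] {B : Type u} [CommRing B] [Algebra k B]

/-- `d + 1` everywhere independent affine conditions on `m` parameters, over a base algebraic over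
`d`-dimensional space, are met only over a proper closed set of parameters. -/
theorem exists_poly' {d m : ℕ} (g : MvPolynomial (Fin d) k →ₐ[k] B)
    (hcl : ∀ (L : Type u) [Field L] [Algebra k L] (χ : B →ₐ[k] L) (S : Set L),
      (∀ j, χ (g (MvPolynomial.X j)) ∈ S) → ∀ b, χ b ∈ algCl (k := k) S)
    (M N : Fin (d + 1) → Fin m → B) (hMN : ∀ l l', ∑ i, M l' i * N l i = if l = l' then 1 else 0)
    (v : Fin (d + 1) → B) :
    ∃ q : MvPolynomial (Fin m) k, q ≠ 0 ∧ ∀ (χ : B →ₐ[k] k) (c : Fin m → k),
      (∀ l, χ (v l) + ∑ i, χ (M l i) * c i = 0) → MvPolynomial.eval c q = 0 := by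
  classical
  let rel : Fin (d + 1) → MvPolynomial (Fin m) B := fun l =>
    MvPolynomial.C (v l) + ∑ i, MvPolynomial.C (M l i) * MvPolynomial.X i
  let J : Ideal (MvPolynomial (Fin m) B) := Ideal.span (Set.range rel)
  let R := MvPolynomial (Fin m) B ⧸ J
  let ι : MvPolynomial (Fin m) k →ₐ[k] R :=
    MvPolynomial.aeval fun i => Ideal.Quotient.mk J (MvPolynomial.X i)
  by_cases hι : ∃ q, q ≠ 0 ∧ ι q = 0
  · obtain ⟨q, hq0, hq⟩ := hι
    refine ⟨q, hq0, fun χ c hc => ?_⟩
    let ev : MvPolynomial (Fin m) B →+* k := MvPolynomial.eval₂Hom χ.toRingHom c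
    have hev : ∀ a ∈ J, ev a = 0 := by
      intro a ha
      refine (Ideal.span_le (I := RingHom.ker ev)).2 ?_ ha
      rintro _ ⟨l, rfl⟩
      show ev (rel l) = 0
      simpa [ev, rel, map_sum] using hc l
    have hcomp : ((Ideal.Quotient.lift J ev hev).comp ι.toRingHom) = MvPolynomial.eval c := by
      refine MvPolynomial.ringHom_ext (fun a => ?_) fun i => ?_
      · show Ideal.Quotient.lift J ev hev (ι (MvPolynomial.C a)) = _
        rw [MvPolynomial.aeval_C, IsScalarTower.algebraMap_apply k (MvPolynomial (Fin m) B) R,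
          Ideal.Quotient.algebraMap_eq, Ideal.Quotient.lift_mk, IsScalarTower.algebraMap_apply k B,
          MvPolynomial.algebraMap_eq]
        simp [ev]
      · show Ideal.Quotient.lift J ev hev (ι (MvPolynomial.X i)) = _
        rw [MvPolynomial.aeval_X, Ideal.Quotient.lift_mk]
        simp [ev]
    rw [← hcomp]
    simp [hq]
  push Not at hι
  exfalso
  let S : Submonoid R := (nonZeroDivisors (MvPolynomial (Fin m) k)).map ι.toRingHom.toMonoidHom
  obtain ⟨P, hP, -, hPS⟩ := Ideal.exists_le_prime_disjoint (⊥ : Ideal R) S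
    (Set.disjoint_left.2 fun x hx hxS => by
      obtain ⟨q, hq, rfl⟩ := hxS
      exact hι q (nonZeroDivisors.ne_zero hq) (Ideal.mem_bot.1 hx))
  haveI := hP
  let L := P.ResidueField
  let π : R →ₐ[k] L := IsScalarTower.toAlgHom k R L
  let χ : B →ₐ[k] L := π.comp ((Ideal.Quotient.mkₐ k J).comp (IsScalarTower.toAlgHom k B _))
  let t : Fin m → L := fun i => π (Ideal.Quotient.mk J (MvPolynomial.X i))
  have hind : AlgebraicIndependent k t := by
    rw [algebraicIndependent_iff]
    intro q hq
    have he : π.comp ι = MvPolynomial.aeval t := MvPolynomial.algHom_ext fun i => by simp [t, ι]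
    rw [← he, AlgHom.comp_apply] at hq
    by_contra hq0
    exact Set.disjoint_left.1 hPS ((Ideal.algebraMap_residueField_eq_zero).1 hq)
      ⟨q, mem_nonZeroDivisors_of_ne_zero hq0, rfl⟩
  have hrel : ∀ l, χ (v l) + ∑ i, χ (M l i) * t i = 0 := fun l => by
    have h : π (Ideal.Quotient.mk J (rel l)) = 0 := by
      rw [Ideal.Quotient.eq_zero_iff_mem.2 (Ideal.subset_span (Set.mem_range_self l)), map_zero]
    simpa [rel, χ, t, map_sum, MvPolynomial.algebraMap_eq] using h
  let K : IntermediateField k L := IntermediateField.adjoin k (Set.range χ)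
  have hK : ∀ b, χ b ∈ K := fun b => IntermediateField.subset_adjoin k _ ⟨b, rfl⟩
  let M' : Fin (d + 1) → Fin m → K := fun l i => ⟨χ (M l i), hK _⟩
  let N' : Fin (d + 1) → Fin m → K := fun l i => ⟨χ (N l i), hK _⟩
  let c₀ : Fin m → L := fun i => -∑ l, χ (N l i) * χ (v l)
  have hMN' : ∀ l l', ∑ i, M' l' i * N' l i = if l = l' then 1 else 0 := fun l l' => Subtype.ext (by
    have := congrArg χ (hMN l l')
    split_ifs at this ⊢ <;> simpa [M', N', map_sum] using this)
  have hc₀ : ∀ l, ∑ i, χ (M l i) * c₀ i = -χ (v l) := fun l => by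
    have h1 : ∑ i, χ (M l i) * ∑ l', χ (N l' i) * χ (v l') = χ (v l) := by
      have h2 : ∀ l', ∑ i, χ (M l i) * (χ (N l' i) * χ (v l')) = (if l' = l then 1 else 0) * χ (v l') := fun l' => by
        have h3 := congrArg χ (hMN l' l)
        rw [map_sum] at h3
        rw [← Finset.sum_congr rfl (fun i _ => mul_assoc (χ (M l i)) (χ (N l' i)) (χ (v l'))), ← Finset.sum_mul,
          ← Finset.sum_congr rfl (fun i _ => map_mul χ (M l i) (N l' i)), h3]
        split_ifs with hl' <;> simp
      rw [Finset.sum_congr rfl (fun i _ => Finset.mul_sum _ _ _), Finset.sum_comm,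
        Finset.sum_congr rfl (fun l' _ => h2 l'), Finset.sum_eq_single l (fun b _ hb => by simp [hb])
          (fun h => absurd (Finset.mem_univ l) h)]
      simp
    show ∑ i, χ (M l i) * -(∑ l', χ (N l' i) * χ (v l')) = _
    rw [Finset.sum_congr rfl (fun i _ => mul_neg _ _), Finset.sum_neg_distrib, h1]
  obtain ⟨d', hd', s, hs⟩ := exists_gens M' N' hMN' (fun i => t i - c₀ i) fun l => by
    simp only [IntermediateField.smul_def, smul_eq_mul, M', mul_sub, Finset.sum_sub_distrib, hc₀ l]
    linear_combination hrel l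
  let S' : Set L := Set.range (Fin.append (fun j => χ (g (MvPolynomial.X j))) s)
  have hχ : ∀ b, χ b ∈ algCl (k := k) S' := fun b => hcl L χ S'
    (fun j => ⟨Fin.castAdd d' j, by simp⟩) b
  have hKS : K ≤ algCl (k := k) S' := IntermediateField.adjoin_le_iff.2 (by
    rintro _ ⟨b, rfl⟩; exact hχ b)
  have hall : ∀ i, t i ∈ algCl (k := k) S' := fun i => by
    obtain ⟨c, hc⟩ := hs i
    rw [show t i = c₀ i + ∑ j, c j • s j from sub_eq_iff_eq_add'.1 hc]
    refine add_mem (neg_mem (sum_mem fun l _ => mul_mem (hχ _) (hχ _))) (sum_mem fun j _ => ?_)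
    rw [IntermediateField.smul_def, smul_eq_mul]
    exact mul_mem (hKS (c j).2) (subset_algCl _ ⟨Fin.natAdd d j, by simp⟩)
  have := card_le_of_mem_algCl _ t hind hall
  omega

/-- Images of an algebra integral over polynomials are algebraic over the images of the variables. -/
theorem mem_algCl_of_isIntegral {L : Type u} [Field L] [Algebra k L] {d : ℕ}
    (g : MvPolynomial (Fin d) k →ₐ[k] B) (hg : g.IsIntegral) (χ : B →ₐ[k] L) (S : Set L)
    (hS : ∀ j, χ (g (MvPolynomial.X j)) ∈ S) (b : B) : χ b ∈ algCl (k := k) S := by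
  rw [mem_algCl]
  let E0 := IntermediateField.adjoin k S
  let φ : MvPolynomial (Fin d) k →ₐ[k] E0 := MvPolynomial.aeval
    fun j => (⟨χ (g (MvPolynomial.X j)), IntermediateField.subset_adjoin k S (hS j)⟩ : E0)
  have hcompat : (χ.comp g) = (IntermediateField.val E0).comp φ := MvPolynomial.algHom_ext fun j => by
    simp [φ]
  obtain ⟨p, hp, hp0⟩ := hg b
  refine (IsIntegral.isAlgebraic ⟨p.map φ.toRingHom, hp.map _, ?_⟩)
  rw [Polynomial.eval₂_map]
  have h := congrArg χ.toRingHom hp0
  rw [map_zero, Polynomial.hom_eval₂,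
    show χ.toRingHom.comp g.toRingHom = (algebraMap E0 L).comp φ.toRingHom from
      RingHom.ext fun x => DFunLike.congr_fun hcompat x] at h
  exact h

/-- More everywhere independent linear conditions than the dimension are met only over a proper
closed set of parameters. -/
theorem exists_poly_of_dim_lt [Algebra.FiniteType k B] [Nontrivial B] {r m : ℕ}
    (hdim : ringKrullDim B < (r : WithBot ℕ∞))
    (M N : Fin r → Fin m → B) (hMN : ∀ l l', ∑ i, M l' i * N l i = if l = l' then 1 else 0) :
    ∃ q : MvPolynomial (Fin m) k, q ≠ 0 ∧ ∀ (χ : B →ₐ[k] k) (c : Fin m → k),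
      (∀ l, ∑ i, χ (M l i) * c i = 0) → MvPolynomial.eval c q = 0 := by
  obtain ⟨s, g, hinj, hfin⟩ := exists_finite_inj_algHom_of_fg k B
  have hs : ringKrullDim B = s := H06Noether.ringKrullDim_eq_of_finite_injective g hinj hfin
  rw [hs, Nat.cast_lt] at hdim
  obtain ⟨q, hq0, hq⟩ := exists_poly' g (fun L _ _ χ S hS b => mem_algCl_of_isIntegral g hfin.to_isIntegral χ S hS b)
    (fun l => M (Fin.castLE hdim l)) (fun l => N (Fin.castLE hdim l))
    (fun l l' => by simp only [hMN, (Fin.castLE_injective hdim).eq_iff]) 0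
  exact ⟨q, hq0, fun χ c h => hq χ c fun l => by simpa using h _⟩

end Groth.Agent.H11Bertini
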