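import Groth.Agent.H11Bertini.Chart
import Groth.Agent.H11Bertini.General
import Groth.Agent.H29RR.FiniteGen
import Groth.Agent.H22Alg.ExtPowSum
import Groth.Agent.S10858
import Groth.Agent.H22Alg.KModel
import Groth.Agent.H8Props.FunDescent.Stalk

/-!
# Nowhere vanishing sections of globally generated bundles of large rank
-/

set_option autoImplicit false
set_option linter.style.haveILetI false
set_option backward.isDefEq.respectTransparency.types false

universe u

open CategoryTheory CategoryTheory.Limits AlgebraicGeometry TopologicalSpace Opposite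

namespace Groth.Agent.H11Bertini

variable {X : Scheme.{u}}

/-- A section on an affine open is spanned by a family when it is so germwise. -/
theorem mem_span_of_germ {F : X.Modules} (hF : Coh.IsQCoh F) {V : X.Opens} (hV : IsAffineOpen V)
    {m : ℕ} (t : Fin m → Γ(F, V)) (j : Γ(F, V))
    (hj : ∀ (y : X) (hy : y ∈ V),
      F.presheaf.germ V y hy j ∈ Submodule.span (X.presheaf.stalk y) (Set.range fun i => F.presheaf.germ V y hy (t i))) :
    j ∈ Submodule.span Γ(X, V) (Set.range t) := by
  let K : Ideal Γ(X, V) := Submodule.comap (LinearMap.toSpanSingleton Γ(X, V) Γ(F, V) j)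
    (Submodule.span Γ(X, V) (Set.range t))
  have hK : K = ⊤ := by
    by_contra hne
    obtain ⟨P, hP, hle⟩ := Ideal.exists_le_maximal _ hne
    let y : PrimeSpectrum Γ(X, V) := ⟨P, hP.isPrime⟩
    have hy : hV.fromSpec y ∈ V := by
      have h1 : hV.fromSpec y ∈ Set.range hV.fromSpec := ⟨_, rfl⟩
      rw [hV.range_fromSpec] at h1
      exact h1
    letI : Algebra Γ(X, V) (X.presheaf.stalk (hV.fromSpec y)) := (X.presheaf.germ V _ hy).hom.toAlgebra
    haveI : IsLocalization.AtPrime (X.presheaf.stalk (hV.fromSpec y)) P := hV.isLocalization_stalk' y hy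
    obtain ⟨r, hr⟩ := (Submodule.mem_span_range_iff_exists_fun _).1 (hj _ hy)
    obtain ⟨s, hs⟩ := IsLocalization.exist_integer_multiples_of_finite P.primeCompl r
    choose a ha using hs
    have h1 : F.presheaf.germ V _ hy ((s : Γ(X, V)) • j - ∑ i, a i • t i) = 0 := by
      rw [map_sub, H17.AssPts.germ_smul', ← hr, Finset.smul_sum, map_sum, sub_eq_zero]
      refine Finset.sum_congr rfl fun i _ => ?_
      rw [H17.AssPts.germ_smul', smul_smul]
      refine congrArg (· • _) ?_
      exact (Algebra.smul_def _ _).symm.trans (ha i).symm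
    obtain ⟨t', ht', h0⟩ := H17.AssPts.exists_smul_eq_zero_of_germ F hF hV hy h1
    have ht'P : t' ∉ P := fun h => (IsLocalization.AtPrime.isUnit_to_map_iff
      (X.presheaf.stalk (hV.fromSpec y)) P t').1 ((H17.AssPts.isUnit_germ_iff hy t').2 ht') h
    refine hP.isPrime.mul_notMem ht'P s.2 (hle ?_)
    show (t' * s) • j ∈ Submodule.span Γ(X, V) (Set.range t)
    rw [smul_sub, sub_eq_zero, smul_smul] at h0
    rw [h0]
    exact Submodule.smul_mem _ _ (Submodule.sum_mem _ fun i _ =>
      Submodule.smul_mem _ _ (Submodule.subset_span ⟨i, rfl⟩))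
  have h1 : (1 : Γ(X, V)) • j ∈ Submodule.span Γ(X, V) (Set.range t) :=
    (Ideal.eq_top_iff_one K).1 hK
  rwa [one_smul] at h1

variable {k : Type u} [Field k] [X.Over (Spec (CommRingCat.of k))]

/-- A general combination of generators of a bundle of rank above the dimension vanishes nowhere:
at every point its germ is a unimodular vector. -/
theorem exists_poly_unimodular [IsAlgClosed k] [LocallyOfFiniteType (X ↘ Spec (CommRingCat.of k))]
    [CompactSpace X] {E : X.Modules} {r m : ℕ} (hE : FlatMod.IsFinLocFreeOfRank r E)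
    (hdim : topologicalKrullDim X < (r : WithBot ℕ∞)) (g : Fin m → Γ(E, ⊤)) (hg : H29RR.SpansStalks E g) :
    ∃ q : MvPolynomial (Fin m) k, q ≠ 0 ∧ ∀ c : Fin m → k, MvPolynomial.eval c q ≠ 0 →
      ∀ y : X, ∃ l : E.presheaf.stalk y →ₗ[X.presheaf.stalk y] X.presheaf.stalk y,
        l (E.presheaf.germ ⊤ y trivial (∑ i, scalars (k := k) (⊤ : X.Opens) (c i) • g i)) = 1 := by
  classical
  have hEq : Coh.IsQCoh E := H29Fitt.isQCoh_of_isFinLocFreeOfRank E hE
  have hloc : ∀ y : X, ∃ (V : X.Opens) (q : MvPolynomial (Fin m) k), y ∈ V ∧ q ≠ 0 ∧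
      ∀ c : Fin m → k, MvPolynomial.eval c q ≠ 0 →
      ∀ z ∈ V, ∃ l : E.presheaf.stalk z →ₗ[X.presheaf.stalk z] X.presheaf.stalk z,
        l (E.presheaf.germ ⊤ z trivial (∑ i, scalars (k := k) (⊤ : X.Opens) (c i) • g i)) = 1 := by
    intro y
    obtain ⟨U, hyU, ⟨e⟩⟩ := hE y
    obtain ⟨V, hV, hyV, hVU⟩ := exists_isAffineOpen_mem_and_subset hyU
    obtain ⟨b⟩ := H8Props.FinLocFree.exists_basis_of_chart E e (V := V) hVU
    letI : Algebra k Γ(X, V) := (scalars (k := k) V).toAlgebra
    haveI : Algebra.FiniteType k Γ(X, V) := RingHom.finiteType_algebraMap.1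
      (RingHom.finiteType_respectsIso.2 _ (Scheme.ΓSpecIso (CommRingCat.of k)).symm.commRingCatIsoToRingEquiv
        (HasRingHomProperty.appLE @LocallyOfFiniteType _ inferInstance ⟨⊤, isAffineOpen_top _⟩ ⟨_, hV⟩ le_top))
    haveI : Nontrivial Γ(X, V) := (X.presheaf.germ V y hyV).hom.domain_nontrivial
    let gV : Fin m → Γ(E, V) := fun i => E.presheaf.map (homOfLE (le_top : V ≤ ⊤)).op (g i)
    let M : Fin r → Fin m → Γ(X, V) := fun l i => b.repr (gV i) l
    have hspan : ∀ l, b l ∈ Submodule.span Γ(X, V) (Set.range gV) := fun l =>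
      mem_span_of_germ hEq hV gV _ fun z hz => by
        have h : (Set.range fun i => E.presheaf.germ V z hz (gV i)) =
            Set.range fun i => E.presheaf.germ ⊤ z trivial (g i) :=
          congrArg Set.range (funext fun i => TopCat.Presheaf.germ_res_apply _ _ _ _ _)
        rw [h, hg z]
        trivial
    choose N hN using fun l => (Submodule.mem_span_range_iff_exists_fun _).1 (hspan l)
    have hMN : ∀ l l', ∑ i, M l' i * N l i = if l = l' then 1 else 0 := fun l l' => by
      have h := congrArg (fun v => b.repr v l') (hN l)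
      simp only [map_sum, map_smul, Finsupp.finsetSum_apply, Finsupp.smul_apply, smul_eq_mul,
        Module.Basis.repr_self, Finsupp.single_apply] at h
      rw [← h]
      exact Finset.sum_congr rfl fun i _ => mul_comm _ _
    have hd : ringKrullDim Γ(X, V) < (r : WithBot ℕ∞) := by
      refine lt_of_le_of_lt ?_ hdim
      rw [← PrimeSpectrum.topologicalKrullDim_eq_ringKrullDim]
      exact Topology.IsInducing.topologicalKrullDim_le hV.fromSpec.isOpenEmbedding.isInducing
    obtain ⟨q, hq0, hq⟩ := exists_poly_of_dim_lt (k := k) hd M N hMN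
    refine ⟨V, q, hyV, hq0, fun c hc z hz => ?_⟩
    let v : Fin r → Γ(X, V) := fun l => ∑ i, M l i * scalars (k := k) V (c i)
    have hv : ∃ l, IsUnit (X.presheaf.germ V z hz (v l)) := by
      by_contra hall
      push Not at hall
      obtain ⟨n, hn, hle⟩ := Ideal.exists_le_maximal _ (hV.primeIdealOf ⟨z, hz⟩).isPrime.ne_top
      haveI := hn
      letI : Field (Γ(X, V) ⧸ n) := Ideal.Quotient.field n
      haveI : Module.Finite k (Γ(X, V) ⧸ n) := finite_of_finite_type_of_isJacobsonRing k _
      let χ : Γ(X, V) →ₐ[k] k :=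
        ((AlgEquiv.ofBijective (Algebra.ofId k (Γ(X, V) ⧸ n))
          (IsAlgClosed.algebraMap_bijective_of_isIntegral (k := k))).symm.toAlgHom).comp (Ideal.Quotient.mkₐ k n)
      refine hc (hq χ c fun l => ?_)
      have h1 : v l ∈ n := hle (by
        by_contra hvn
        letI := TopCat.Presheaf.algebra_section_stalk X.presheaf (⟨z, hz⟩ : V)
        exact hall l ((hV.isLocalization_stalk ⟨z, hz⟩).map_units _ ⟨v l, hvn⟩))
      have h2 : χ (v l) = 0 := by simp [χ, Ideal.Quotient.eq_zero_iff_mem.2 h1]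
      rw [← h2, map_sum]
      refine Finset.sum_congr rfl fun i _ => ?_
      rw [map_mul, show scalars (k := k) V (c i) = algebraMap k Γ(X, V) (c i) from rfl, AlgHom.commutes]
      rfl
    obtain ⟨l₀, hl₀⟩ := hv
    letI := TopCat.Presheaf.algebra_section_stalk X.presheaf (⟨z, hz⟩ : V)
    letI := Module.compHom (E.presheaf.stalk z) (algebraMap Γ(X, V) (X.presheaf.stalk z))
    haveI : IsScalarTower Γ(X, V) (X.presheaf.stalk z) (E.presheaf.stalk z) :=
      .of_algebraMap_smul fun _ _ => rfl
    haveI : IsLocalization (hV.primeIdealOf ⟨z, hz⟩).asIdeal.primeCompl (X.presheaf.stalk z) :=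
      hV.isLocalization_stalk ⟨z, hz⟩
    haveI : IsLocalizedModule (hV.primeIdealOf ⟨z, hz⟩).asIdeal.primeCompl (H29Fitt.germLin E (⟨z, hz⟩ : V)) :=
      H29Fitt.isLocalizedModule_germLin E hEq hV ⟨z, hz⟩
    let B := b.ofIsLocalizedModule (X.presheaf.stalk z) (hV.primeIdealOf ⟨z, hz⟩).asIdeal.primeCompl
      (H29Fitt.germLin E (⟨z, hz⟩ : V))
    refine ⟨(↑hl₀.unit⁻¹ : X.presheaf.stalk z) • B.coord l₀, ?_⟩
    have hG : E.presheaf.germ ⊤ z trivial (∑ i, scalars (k := k) (⊤ : X.Opens) (c i) • g i) =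
        ∑ l, X.presheaf.germ V z hz (v l) • B l := by
      have h1 : E.presheaf.map (homOfLE (le_top : V ≤ ⊤)).op (∑ i, scalars (k := k) (⊤ : X.Opens) (c i) • g i) =
          ∑ l, v l • b l := by
        rw [map_sum]
        refine ((Finset.sum_congr rfl fun i _ => ?_).trans Finset.sum_comm).trans
          (Finset.sum_congr rfl fun l _ => (Finset.sum_smul).symm)
        rw [Scheme.Modules.map_smul, show X.presheaf.map (homOfLE (le_top : V ≤ ⊤)).op (scalars (k := k) (⊤ : X.Opens) (c i)) =
          scalars (k := k) V (c i) by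
            simp only [scalars, RingHom.comp_apply]
            exact congr($(Scheme.Hom.appLE_map (X ↘ Spec (CommRingCat.of k)) le_top (homOfLE (le_top : V ≤ ⊤)).op)
              ((Scheme.ΓSpecIso (CommRingCat.of k)).inv (c i)))]
        show scalars V (c i) • gV i = ∑ l, (M l i * scalars V (c i)) • b l
        conv_lhs => rw [← b.sum_repr (gV i), Finset.smul_sum]
        exact Finset.sum_congr rfl fun l _ => by rw [smul_smul, mul_comm]
      rw [← TopCat.Presheaf.germ_res_apply E.presheaf (homOfLE (le_top : V ≤ ⊤)) z hz, h1, map_sum]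
      refine Finset.sum_congr rfl fun l _ => ?_
      rw [H17.AssPts.germ_smul', Module.Basis.ofIsLocalizedModule_apply]
      rfl
    rw [hG, LinearMap.smul_apply]
    refine (congrArg _ (map_sum (B.coord l₀) _ _)).trans ?_
    simp only [map_smul, Module.Basis.coord_apply, Module.Basis.repr_self, Finsupp.single_apply, smul_eq_mul,
      mul_ite, mul_one, mul_zero, Finset.sum_ite_eq', Finset.mem_univ, if_true]
    exact hl₀.val_inv_mul
  choose V q hyV hq0 hq using hloc
  obtain ⟨T, hT⟩ := isCompact_univ.elim_finite_subcover (fun y => (V y : Set X)) (fun y => (V y).isOpen)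
    fun y _ => Set.mem_iUnion.2 ⟨y, hyV y⟩
  refine ⟨∏ y ∈ T, q y, Finset.prod_ne_zero_iff.2 fun y _ => hq0 y, fun c hc z => ?_⟩
  obtain ⟨y, hyT, hzy⟩ := Set.mem_iUnion₂.1 (hT (Set.mem_univ z))
  rw [map_prod, Finset.prod_ne_zero_iff] at hc
  exact hq y c (hc y hyT) z hzy

theorem finrank_generic_of_rank [IsIntegral X] {E : X.Modules} {n : ℕ} (hE : FlatMod.IsFinLocFreeOfRank n E) :
    Module.finrank (X.presheaf.stalk (genericPoint X)) (E.presheaf.stalk (genericPoint X)) = n := by
  obtain ⟨b⟩ := H8Props.FunDescent.stalkFree_of_isFreeOfRankNear E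
    (H8Props.FinLocFree.isQCoh_of_isFinLocFree E (fun x => ⟨(hE x).choose, n, (hE x).choose_spec⟩)) (p := n)
    (x := genericPoint X) (hE _)
  rw [Module.finrank_eq_card_basis b, Fintype.card_fin]

theorem isFinLocFreeOfRank_of_generic [IsIntegral X] (E : X.Modules) (hE : FlatMod.IsFinLocFree E) {n : ℕ}
    (hn : Module.finrank (X.presheaf.stalk (genericPoint X)) (E.presheaf.stalk (genericPoint X)) = n) :
    FlatMod.IsFinLocFreeOfRank n E := fun x => by
  obtain ⟨U, m, hxU, he⟩ := hE x
  have hηU : genericPoint X ∈ U :=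
    ((genericPoint_spec X).mem_open_set_iff U.isOpen).2 ⟨x, trivial, hxU⟩
  obtain ⟨b⟩ := H8Props.FunDescent.stalkFree_of_isFreeOfRankNear E
    (H8Props.FinLocFree.isQCoh_of_isFinLocFree E hE) (p := m) ⟨U, hηU, he⟩
  rw [Module.finrank_eq_card_basis b, Fintype.card_fin] at hn
  subst hn
  exact ⟨U, hxU, he⟩

end Groth.Agent.H11Bertini
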