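import Groth.Agent.H12Pic.PicCurve.Section
import Groth.Agent.H17.AssPts

/-!
# The zero scheme of an arbitrary section of an invertible module is cut out by its coefficient
-/

set_option autoImplicit false
set_option linter.style.haveILetI false
set_option backward.isDefEq.respectTransparency.types false

universe u

open CategoryTheory CategoryTheory.Limits AlgebraicGeometry TopologicalSpace Opposite

namespace Groth.Agent.H11Bertini

open Groth.Agent.H28Mero

variable {X : Scheme.{u}}

/-- Germwise multiples of a section on an affine open are multiples. -/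
theorem exists_coeff_of_germ {F : X.Modules} (hF : Coh.IsQCoh F) {V : X.Opens} (hV : IsAffineOpen V)
    (t j : Γ(F, V)) (hj : ∀ (y : X) (hy : y ∈ V), ∃ r : X.presheaf.stalk y,
      r • F.presheaf.germ V y hy t = F.presheaf.germ V y hy j) :
    ∃ r : Γ(X, V), j = r • t := by
  let K : Ideal Γ(X, V) := Submodule.comap (LinearMap.toSpanSingleton Γ(X, V) Γ(F, V) j)
    (Submodule.span Γ(X, V) {t})
  have hK : K = ⊤ := by
    by_contra hne
    obtain ⟨P, hP, hle⟩ := Ideal.exists_le_maximal _ hne
    let y : PrimeSpectrum Γ(X, V) := ⟨P, hP.isPrime⟩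
    have hy : hV.fromSpec y ∈ V := by
      have h1 : hV.fromSpec y ∈ Set.range hV.fromSpec := ⟨_, rfl⟩
      rw [hV.range_fromSpec] at h1
      exact h1
    letI : Algebra Γ(X, V) (X.presheaf.stalk (hV.fromSpec y)) := (X.presheaf.germ V _ hy).hom.toAlgebra
    haveI : IsLocalization.AtPrime (X.presheaf.stalk (hV.fromSpec y)) P := hV.isLocalization_stalk' y hy
    obtain ⟨r, hr⟩ := hj _ hy
    obtain ⟨⟨b, s⟩, rfl⟩ := IsLocalization.mk'_surjective P.primeCompl r
    have h1 : F.presheaf.germ V _ hy ((s : Γ(X, V)) • j - b • t) = 0 := by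
      rw [map_sub, H17.AssPts.germ_smul', H17.AssPts.germ_smul', ← hr, smul_smul, sub_eq_zero]
      refine congrArg (· • _) ?_
      exact IsLocalization.mk'_spec' _ b s
    obtain ⟨t', ht', h0⟩ := H17.AssPts.exists_smul_eq_zero_of_germ F hF hV hy h1
    have ht'P : t' ∉ P := fun h => (IsLocalization.AtPrime.isUnit_to_map_iff
      (X.presheaf.stalk (hV.fromSpec y)) P t').1 ((H17.AssPts.isUnit_germ_iff hy t').2 ht') h
    refine hP.isPrime.mul_notMem ht'P s.2 (hle ?_)
    show (t' * s) • j ∈ Submodule.span Γ(X, V) {t}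
    rw [smul_sub, sub_eq_zero, smul_smul, smul_smul] at h0
    rw [h0]
    exact Submodule.smul_mem _ _ (Submodule.mem_span_singleton_self t)
  have h1 : (1 : Γ(X, V)) • j ∈ Submodule.span Γ(X, V) {t} :=
    (Ideal.eq_top_iff_one K).1 hK
  rw [one_smul, Submodule.mem_span_singleton] at h1
  obtain ⟨r, hr⟩ := h1
  exact ⟨r, hr.symm⟩

/-- The zero scheme is the ideal sheaf of the germs of zeros, whether the section is regular or not. -/
theorem zeroScheme_eq_zeroIdeal {L : X.Modules} (hL : PicF.IsInvertible L) (s : Coh.structureModule X ⟶ L) :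
    PicF2.zeroScheme L s = H12Pic.PicCurve.zeroIdeal L s hL := by
  refine le_antisymm (fun V a ha => ?_) (Scheme.IdealSheafData.le_ofIdeals_iff.mpr fun W a ha m => ?_)
  · have ha' := Scheme.IdealSheafData.ideal_ofIdeals_le _ V ha
    rw [H12Pic.PicCurve.zeroIdeal, germIdealSheaf_ideal]
    refine mem_germIdeal.mpr fun y hy => ?_
    rw [zeroGerm, Submodule.mem_colon]
    intro m _
    obtain ⟨t, v, ht⟩ := H29Blow.exists_germ_eq_smul L (isQCoh_of_isInvertible hL) V.2 ⟨y, hy⟩ m
    obtain ⟨b, hb⟩ := ha' t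
    let b' : Γ(X, V.1) := b
    have hb' : (a • t : Γ(L, V.1)) = b' • (SecTwist.val s V.1 : Γ(L, V.1)) := hb
    have h1 := congrArg (L.presheaf.germ V.1 y hy) hb'
    rw [Mero.germ_smul, ht] at h1
    erw [Mero.germ_smul, germ_val] at h1
    refine Submodule.mem_span_singleton.mpr ⟨↑v⁻¹ * X.presheaf.germ V.1 y hy b', ?_⟩
    rw [mul_smul, ← h1, smul_smul, smul_smul, mul_right_comm, Units.inv_mul, one_mul]
  · rw [H12Pic.PicCurve.zeroIdeal, germIdealSheaf_ideal] at ha
    obtain ⟨b, hb⟩ := exists_coeff_of_germ (isQCoh_of_isInvertible hL) W.2 (SecTwist.val s W.1 : Γ(L, W.1))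
      ((show Γ(X, W.1) from a) • (show Γ(L, W.1) from m)) fun y hy => by
        have h1 := Submodule.mem_colon.mp (mem_germIdeal.mp ha y hy)
          (L.presheaf.germ W.1 y hy (show Γ(L, W.1) from m)) trivial
        obtain ⟨r, hr⟩ := Submodule.mem_span_singleton.mp h1
        refine ⟨r, ?_⟩
        rw [germ_val, hr]
        exact (Mero.germ_smul L _ _ _ _ _).symm
    exact ⟨b, hb⟩

end Groth.Agent.H11Bertini
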