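import Groth.Agent.H11Bertini.Jets
import Groth.Agent.H11Bertini.ZeroLocal
import Groth.Agent.H11Ample.Basic
import Groth.Agent.H22Alg.PB.Local
import Groth.Prelude.Def_Formal

/-!
# Étale charts of a smooth scheme trivialising an invertible module, and scalars on sections
-/

set_option autoImplicit false
set_option linter.style.haveILetI false
set_option backward.isDefEq.respectTransparency.types false

universe u

open CategoryTheory CategoryTheory.Limits AlgebraicGeometry TopologicalSpace Opposite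

namespace Groth.Agent.H11Bertini

open Groth.Agent.H28Mero

variable {k : Type u} [Field k] {Y : Scheme.{u}} [Y.Over (Spec (CommRingCat.of k))]

/-- Scalars on an open set. -/
noncomputable abbrev scalars (V : Y.Opens) : k →+* Γ(Y, V) :=
  ((Y ↘ Spec (CommRingCat.of k)).appLE ⊤ V le_top).hom.comp (Scheme.ΓSpecIso (CommRingCat.of k)).inv.hom

theorem val_smulMod_comp {L : Y.Modules} (c : k) (s : Coh.structureModule Y ⟶ L) (V : Y.Opens) :
    (SecTwist.val (Formal.smulMod k (Coh.structureModule Y) c ≫ s) V : Γ(L, V)) =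
      scalars V c • (SecTwist.val s V : Γ(L, V)) := by
  refine (congrArg (s.val.app (op V)).hom ?_).trans (((s.val.app (op V)).hom).map_smul (scalars V c) _)
  rfl

theorem val_comb {L : Y.Modules} {m : ℕ} (s : Fin m → (Coh.structureModule Y ⟶ L)) (c : Fin m → k)
    (V : Y.Opens) :
    (SecTwist.val (∑ i, Formal.smulMod k (Coh.structureModule Y) (c i) ≫ s i) V : Γ(L, V)) =
      ∑ i, scalars V (c i) • (SecTwist.val (s i) V : Γ(L, V)) := by
  let φ : (Coh.structureModule Y ⟶ L) →+ Γ(L, V) :=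
    AddMonoidHom.mk' (fun t => (SecTwist.val t V : Γ(L, V))) fun _ _ => rfl
  exact (map_sum φ _ _).trans (Finset.sum_congr rfl fun i _ => val_smulMod_comp _ _ _)

/-- A scheme smooth over a field is covered by affine opens, each with a generator of a given invertible
module and coordinates étale over affine space. -/
theorem exists_chart [Smooth (Y ↘ Spec (CommRingCat.of k))] {L : Y.Modules} (hL : PicF.IsInvertible L) (y : Y) :
    ∃ V : Y.Opens, IsAffineOpen V ∧ y ∈ V ∧ ∃ (e : Γ(L, V)), H11Tilde.IsGen L e ∧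
      ∃ (d : ℕ) (g : MvPolynomial (Fin d) k →+* Γ(Y, V)), g.comp MvPolynomial.C = scalars V ∧ g.Etale := by
  obtain ⟨U, hU, V, hV, hyV, hVU, hstd⟩ := Smooth.exists_isStandardSmooth (Y ↘ Spec (CommRingCat.of k)) y
  obtain rfl : U = ⊤ := eq_top_iff.2 fun z _ => (Subsingleton.elim (α := Spec (CommRingCat.of k)) _ z) ▸ hVU hyV
  obtain ⟨W, e, hyW, he⟩ := H11Ample.exists_gen hL y
  obtain ⟨h, hhW, hyh⟩ := hV.exists_basicOpen_le (V := W) ⟨y, hyW⟩ hyV
  haveI : IsLocalization.Away h Γ(Y, Y.basicOpen h) := hV.isLocalization_basicOpen h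
  have h1 : ((Y ↘ Spec (CommRingCat.of k)).appLE ⊤ (Y.basicOpen h) le_top).hom.IsStandardSmooth := by
    have h2 := RingHom.isStandardSmooth_stableUnderComposition _ _ hstd
      (RingHom.isStandardSmooth_holdsForLocalizationAway Γ(Y, Y.basicOpen h) h)
    convert h2 using 1
    rw [← Scheme.Hom.appLE_map _ hVU (homOfLE (Y.basicOpen_le h)).op]
    rfl
  have h3 : (scalars (k := k) (Y.basicOpen h)).IsStandardSmooth :=
    RingHom.isStandardSmooth_respectsIso.2 _ (Scheme.ΓSpecIso (CommRingCat.of k)).symm.commRingCatIsoToRingEquiv h1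
  obtain ⟨d, g, hg, hge⟩ := h3.exists_etale_mvPolynomial
  exact ⟨_, hV.basicOpen h, hyh, L.presheaf.map (homOfLE hhW).op e,
    fun z hz => by simpa only [TopCat.Presheaf.germ_res_apply] using he z (hhW hz), d, g, hg, hge⟩


/-- Gluing the chartwise generic conditions for the members of a linear system. -/
theorem exists_poly_of_charts [Smooth (Y ↘ Spec (CommRingCat.of k))] [QuasiCompact (Y ↘ Spec (CommRingCat.of k))]
    {L : Y.Modules} (hL : PicF.IsInvertible L) {m : ℕ} (s : Fin m → (Coh.structureModule Y ⟶ L))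
    (hloc : ∀ (V : Y.Opens) (hV : IsAffineOpen V) (e : Γ(L, V)), H11Tilde.IsGen L e →
      ∀ (d : ℕ) (g : MvPolynomial (Fin d) k →+* Γ(Y, V)), g.comp MvPolynomial.C = scalars V → g.Etale →
      ∀ a : Fin m → Γ(Y, V), (∀ i, (SecTwist.val (s i) V : Γ(L, V)) = a i • e) →
      ∃ q : MvPolynomial (Fin m) k, q ≠ 0 ∧ ∀ c : Fin m → k, MvPolynomial.eval c q ≠ 0 →
        RingHom.Smooth ((Ideal.Quotient.mk (Ideal.span {∑ i, scalars (k := k) V (c i) * a i})).comp
          (scalars (k := k) V))) :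
    ∃ q : MvPolynomial (Fin m) k, q ≠ 0 ∧ ∀ c : Fin m → k, MvPolynomial.eval c q ≠ 0 →
      Smooth ((PicF2.zeroScheme L (∑ i : Fin m, Formal.smulMod k (Coh.structureModule Y) (c i) ≫ s i)).subschemeι ≫
        (Y ↘ Spec (CommRingCat.of k))) := by
  classical
  haveI : CompactSpace Y := QuasiCompact.compactSpace_of_compactSpace (Y ↘ Spec (CommRingCat.of k))
  choose V hV hyV e he d g hg hge using exists_chart (k := k) (Y := Y) hL
  choose a ha using fun y i => H11Ample.exists_coeff (he y) (SecTwist.val (s i) (V y) : Γ(L, V y))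
  choose q hq0 hq using fun y => hloc (V y) (hV y) (e y) (he y) (d y) (g y) (hg y) (hge y) (a y) (ha y)
  obtain ⟨t, ht⟩ := isCompact_univ.elim_finite_subcover (fun y : Y => (V y : Set Y)) (fun y => (V y).2)
    fun y _ => Set.mem_iUnion.2 ⟨y, hyV y⟩
  refine ⟨∏ y ∈ t, q y, Finset.prod_ne_zero_iff.2 fun y _ => hq0 y, fun c hc => ?_⟩
  rw [map_prod, Finset.prod_ne_zero_iff] at hc
  set σ := ∑ i : Fin m, Formal.smulMod k (Coh.structureModule Y) (c i) ≫ s i with hσ
  let I := PicF2.zeroScheme L σ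
  have hI : ∀ y : Y, I.ideal ⟨V y, hV y⟩ = Ideal.span {∑ i, scalars (k := k) (V y) (c i) * a y i} := by
    intro y
    show (PicF2.zeroScheme L σ).ideal _ = _
    rw [H11Bertini.zeroScheme_eq_zeroIdeal hL σ]
    refine H12Pic.PicCurve.zeroIdeal_ideal L σ hL (hV y) (e := e y) (he y) fun z hz => ?_
    rw [← H17.AssPts.germ_smul']
    refine (germ_val (L := L) σ (V y) z hz).symm.trans (congrArg (L.presheaf.germ (V y) z hz) ?_)
    rw [hσ, val_comb, Finset.sum_smul]
    refine Finset.sum_congr rfl fun i _ => ?_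
    rw [ha y i, mul_smul]
    rfl
  let F := I.subschemeι ≫ (Y ↘ Spec (CommRingCat.of k))
  refine HasRingHomProperty.of_iSup_eq_top (P := @Smooth)
    (fun y : t => (⟨_, (hV y.1).preimage I.subschemeι⟩ : I.subscheme.affineOpens)) ?_ fun y => ?_
  · refine eq_top_iff.2 fun z _ => ?_
    obtain ⟨y, hy, hzy⟩ := Set.mem_iUnion₂.1 (ht (Set.mem_univ (I.subschemeι z)))
    exact TopologicalSpace.Opens.mem_iSup.2 ⟨⟨y, hy⟩, hzy⟩
  let W : Y.affineOpens := ⟨V y.1, hV y.1⟩
  have happ : F.appLE ⊤ (I.subschemeι ⁻¹ᵁ W.1) le_top =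
      (Y ↘ Spec (CommRingCat.of k)).appLE ⊤ W.1 le_top ≫ I.subschemeι.app W.1 := by
    rw [Scheme.Hom.app_eq_appLE, Scheme.Hom.appLE_comp_appLE]
  show RingHom.Smooth (F.appLE ⊤ (I.subschemeι ⁻¹ᵁ W.1) le_top).hom
  rw [happ]
  have hker : RingHom.ker (I.subschemeι.app W.1).hom = Ideal.span {∑ i, scalars (k := k) (V y.1) (c i) * a y.1 i} :=
    (I.ker_subschemeι_app W).trans (hI y.1)
  let ψ := (Ideal.quotEquivOfEq hker.symm).trans
    (RingHom.quotientKerEquivOfSurjective (I.subschemeι_app_surjective W))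
  have key := RingHom.Smooth.respectsIso.1 _ ψ (hq y.1 c (hc y.1 y.2))
  have h2 := RingHom.Smooth.respectsIso.2 _ (Scheme.ΓSpecIso (CommRingCat.of k)).commRingCatIsoToRingEquiv key
  convert h2 using 1
  refine RingHom.ext fun z => ?_
  exact (congrArg (fun z => (I.subschemeι.app W.1).hom (((Y ↘ Spec (CommRingCat.of k)).appLE ⊤ W.1 le_top).hom z))
    (RingHom.congr_fun (congrArg CommRingCat.Hom.hom (Scheme.ΓSpecIso (CommRingCat.of k)).hom_inv_id) z)).symm

end Groth.Agent.H11Bertini
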