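import Groth.Agent.H05EGA4.An.Bertini
import Mathlib.RingTheory.Kaehler.Polynomial
import Mathlib.RingTheory.Etale.Kaehler
import Mathlib.FieldTheory.IsAlgClosed.Basic
import Mathlib.RingTheory.Jacobson.Ring
import Mathlib.RingTheory.Nakayama

/-!
# Bertini from first-order jets, on an algebra étale over affine space
-/

set_option autoImplicit false
set_option linter.style.haveILetI false

open TensorProduct KaehlerDifferential
open scoped IntermediateField.algebraAdjoinAdjoin

universe u

namespace Groth.Agent.H11Bertini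

open Groth.Agent.H05EGA4.An.Bertini

variable {k : Type u} [Field k] {B : Type u} [CommRing B] [Algebra k B]

/-- The differentials of étale coordinates form a basis. -/
theorem exists_basis {d : ℕ} (g : MvPolynomial (Fin d) k →ₐ[k] B) (hg : g.Etale) :
    ∃ e : Module.Basis (Fin d) B Ω[B⁄k], ∀ j, D k B (g (MvPolynomial.X j)) = e j := by
  letI : Algebra (MvPolynomial (Fin d) k) B := g.toRingHom.toAlgebra
  haveI : Algebra.Etale (MvPolynomial (Fin d) k) B := hg
  haveI : IsScalarTower k (MvPolynomial (Fin d) k) B := IsScalarTower.of_algebraMap_eq fun a => (g.commutes a).symm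
  refine ⟨((mvPolynomialBasis k (Fin d)).baseChange B).map
    (tensorKaehlerEquivOfFormallyEtale k (MvPolynomial (Fin d) k) B), fun j => ?_⟩
  rw [Module.Basis.map_apply, Module.Basis.baseChange_apply, mvPolynomialBasis_apply,
    tensorKaehlerEquivOfFormallyEtale_apply, mapBaseChange_tmul, one_smul, map_D]
  rfl

/-- A linear map onto every residue field has a right inverse. -/
theorem exists_rightInverse {r m : ℕ} (M : Fin r → Fin m → B)
    (h : ∀ n : Ideal B, n.IsMaximal → ∀ w : Fin r → B,
      ∃ c : Fin m → B, ∀ l, (∑ i, c i * M l i) - w l ∈ n) :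
    ∃ N : Fin r → Fin m → B, ∀ l l', ∑ i, M l' i * N l i = if l = l' then 1 else 0 := by
  classical
  let φ : (Fin m → B) →ₗ[B] (Fin r → B) :=
    Fintype.linearCombination B (fun i l => M l i)
  have hφ : ∀ c l, φ c l = ∑ i, c i * M l i := fun c l => by
    simp [φ, Fintype.linearCombination_apply]
  let Q := (Fin r → B) ⧸ LinearMap.range φ
  have hQ : ∀ n : Ideal B, n.IsMaximal → (⊤ : Submodule B Q) ≤ n • ⊤ := fun n hn q _ => by
    obtain ⟨w, rfl⟩ := Submodule.Quotient.mk_surjective _ q
    obtain ⟨c, hc⟩ := h n hn w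
    have hw : Submodule.Quotient.mk (p := LinearMap.range φ) w =
        (LinearMap.range φ).mkQ (w - φ c) := by
      rw [map_sub, Submodule.mkQ_apply, Submodule.mkQ_apply,
        (Submodule.Quotient.mk_eq_zero _).2 (LinearMap.mem_range_self φ c), sub_zero]
    rw [hw, ← Finset.univ_sum_single (w - φ c), map_sum]
    refine Submodule.sum_mem _ fun l _ => ?_
    have : Pi.single l ((w - φ c) l) = (w - φ c) l • (Pi.single l (1 : B) : Fin r → B) := by
      rw [← Pi.single_smul', smul_eq_mul, mul_one]
    rw [this, map_smul]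
    exact Submodule.smul_mem_smul (by rw [Pi.sub_apply, hφ]; simpa [neg_sub] using n.neg_mem (hc l))
      Submodule.mem_top
  have htop : LinearMap.range φ = ⊤ := by
    by_contra hne
    have hann : (⊤ : Submodule B Q).annihilator ≠ ⊤ := fun he => hne (Submodule.eq_top_iff'.2 fun w =>
      (Submodule.Quotient.mk_eq_zero _).1 ((one_smul B (Submodule.Quotient.mk (p := LinearMap.range φ) w)).symm.trans
        (Submodule.mem_annihilator.1 ((Ideal.eq_top_iff_one _).1 he)
          (Submodule.Quotient.mk (p := LinearMap.range φ) w) Submodule.mem_top)))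
    obtain ⟨n, hn, hle⟩ := Ideal.exists_le_maximal _ hann
    obtain ⟨r, hr1, hr⟩ := Submodule.exists_sub_one_mem_and_smul_eq_zero_of_fg_of_le_smul n
      (⊤ : Submodule B Q) Module.Finite.fg_top (hQ n hn)
    have hrn : r ∈ n := hle (Submodule.mem_annihilator.2 hr)
    exact hn.ne_top ((Ideal.eq_top_iff_one _).2 (by simpa using n.sub_mem hrn hr1))
  choose N hN using fun l : Fin r => LinearMap.range_eq_top.1 htop (Pi.single l (1 : B))
  refine ⟨N, fun l l' => ?_⟩
  have := congrFun (hN l) l'
  rw [hφ, Pi.single_apply] at this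
  simpa [mul_comm, eq_comm] using this

/-- `d + 1` everywhere independent affine conditions on `m` parameters, over a base étale over
`d`-dimensional space, are met only over a proper closed set of parameters. -/
theorem exists_poly {d m : ℕ} (g : MvPolynomial (Fin d) k →ₐ[k] B) (hg : g.Etale)
    (M N : Fin (d + 1) → Fin m → B) (hMN : ∀ l l', ∑ i, M l' i * N l i = if l = l' then 1 else 0)
    (v : Fin (d + 1) → B) :
    ∃ q : MvPolynomial (Fin m) k, q ≠ 0 ∧ ∀ (χ : B →ₐ[k] k) (c : Fin m → k),
      (∀ l, χ (v l) + ∑ i, χ (M l i) * c i = 0) → MvPolynomial.eval c q = 0 := by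
  classical
  let rel : Fin (d + 1) → MvPolynomial (Fin m) B := fun l =>
    MvPolynomial.C (v l) + ∑ i, MvPolynomial.C (M l i) * MvPolynomial.X i
  let J : Ideal (MvPolynomial (Fin m) B) := Ideal.span (Set.range rel)
  let R := MvPolynomial (Fin m) B ⧸ J
  let ι : MvPolynomial (Fin m) k →ₐ[k] R :=
    MvPolynomial.aeval fun i => Ideal.Quotient.mk J (MvPolynomial.X i)
  by_cases hι : ∃ q, q ≠ 0 ∧ ι q = 0
  · obtain ⟨q, hq0, hq⟩ := hι
    refine ⟨q, hq0, fun χ c hc => ?_⟩
    let ev : MvPolynomial (Fin m) B →+* k := MvPolynomial.eval₂Hom χ.toRingHom c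
    have hev : ∀ a ∈ J, ev a = 0 := by
      intro a ha
      refine (Ideal.span_le (I := RingHom.ker ev)).2 ?_ ha
      rintro _ ⟨l, rfl⟩
      show ev (rel l) = 0
      simpa [ev, rel, map_sum] using hc l
    have hcomp : ((Ideal.Quotient.lift J ev hev).comp ι.toRingHom) = MvPolynomial.eval c := by
      refine MvPolynomial.ringHom_ext (fun a => ?_) fun i => ?_
      · show Ideal.Quotient.lift J ev hev (ι (MvPolynomial.C a)) = _
        rw [MvPolynomial.aeval_C, IsScalarTower.algebraMap_apply k (MvPolynomial (Fin m) B) R,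
          Ideal.Quotient.algebraMap_eq, Ideal.Quotient.lift_mk, IsScalarTower.algebraMap_apply k B,
          MvPolynomial.algebraMap_eq]
        simp [ev]
      · show Ideal.Quotient.lift J ev hev (ι (MvPolynomial.X i)) = _
        rw [MvPolynomial.aeval_X, Ideal.Quotient.lift_mk]
        simp [ev]
    rw [← hcomp]
    simp [hq]
  push Not at hι
  exfalso
  let S : Submonoid R := (nonZeroDivisors (MvPolynomial (Fin m) k)).map ι.toRingHom.toMonoidHom
  obtain ⟨P, hP, -, hPS⟩ := Ideal.exists_le_prime_disjoint (⊥ : Ideal R) S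
    (Set.disjoint_left.2 fun x hx hxS => by
      obtain ⟨q, hq, rfl⟩ := hxS
      exact hι q (nonZeroDivisors.ne_zero hq) (Ideal.mem_bot.1 hx))
  haveI := hP
  let L := P.ResidueField
  let π : R →ₐ[k] L := IsScalarTower.toAlgHom k R L
  let χ : B →ₐ[k] L := π.comp ((Ideal.Quotient.mkₐ k J).comp (IsScalarTower.toAlgHom k B _))
  let t : Fin m → L := fun i => π (Ideal.Quotient.mk J (MvPolynomial.X i))
  have hind : AlgebraicIndependent k t := by
    rw [algebraicIndependent_iff]
    intro q hq
    have he : π.comp ι = MvPolynomial.aeval t := MvPolynomial.algHom_ext fun i => by simp [t, ι]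
    rw [← he, AlgHom.comp_apply] at hq
    by_contra hq0
    exact Set.disjoint_left.1 hPS ((Ideal.algebraMap_residueField_eq_zero).1 hq)
      ⟨q, mem_nonZeroDivisors_of_ne_zero hq0, rfl⟩
  have hrel : ∀ l, χ (v l) + ∑ i, χ (M l i) * t i = 0 := fun l => by
    have h : π (Ideal.Quotient.mk J (rel l)) = 0 := by
      rw [Ideal.Quotient.eq_zero_iff_mem.2 (Ideal.subset_span (Set.mem_range_self l)), map_zero]
    simpa [rel, χ, t, map_sum, MvPolynomial.algebraMap_eq] using h
  let K : IntermediateField k L := IntermediateField.adjoin k (Set.range χ)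
  have hK : ∀ b, χ b ∈ K := fun b => IntermediateField.subset_adjoin k _ ⟨b, rfl⟩
  let M' : Fin (d + 1) → Fin m → K := fun l i => ⟨χ (M l i), hK _⟩
  let N' : Fin (d + 1) → Fin m → K := fun l i => ⟨χ (N l i), hK _⟩
  let c₀ : Fin m → L := fun i => -∑ l, χ (N l i) * χ (v l)
  have hMN' : ∀ l l', ∑ i, M' l' i * N' l i = if l = l' then 1 else 0 := fun l l' => Subtype.ext (by
    have := congrArg χ (hMN l l')
    split_ifs at this ⊢ <;> simpa [M', N', map_sum] using this)
  have hc₀ : ∀ l, ∑ i, χ (M l i) * c₀ i = -χ (v l) := fun l => by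
    have h1 : ∑ i, χ (M l i) * ∑ l', χ (N l' i) * χ (v l') = χ (v l) := by
      have h2 : ∀ l', ∑ i, χ (M l i) * (χ (N l' i) * χ (v l')) = (if l' = l then 1 else 0) * χ (v l') := fun l' => by
        have h3 := congrArg χ (hMN l' l)
        rw [map_sum] at h3
        rw [← Finset.sum_congr rfl (fun i _ => mul_assoc (χ (M l i)) (χ (N l' i)) (χ (v l'))), ← Finset.sum_mul,
          ← Finset.sum_congr rfl (fun i _ => map_mul χ (M l i) (N l' i)), h3]
        split_ifs with hl' <;> simp
      rw [Finset.sum_congr rfl (fun i _ => Finset.mul_sum _ _ _), Finset.sum_comm,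
        Finset.sum_congr rfl (fun l' _ => h2 l'), Finset.sum_eq_single l (fun b _ hb => by simp [hb])
          (fun h => absurd (Finset.mem_univ l) h)]
      simp
    show ∑ i, χ (M l i) * -(∑ l', χ (N l' i) * χ (v l')) = _
    rw [Finset.sum_congr rfl (fun i _ => mul_neg _ _), Finset.sum_neg_distrib, h1]
  obtain ⟨d', hd', s, hs⟩ := exists_gens M' N' hMN' (fun i => t i - c₀ i) fun l => by
    simp only [IntermediateField.smul_def, smul_eq_mul, M', mul_sub, Finset.sum_sub_distrib, hc₀ l]
    linear_combination hrel l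
  let S' : Set L := Set.range (Fin.append (fun j => χ (g (MvPolynomial.X j))) s)
  have hχ : ∀ b, χ b ∈ algCl (k := k) S' := fun b => mem_algCl_of_etale g hg χ S'
    (fun j => ⟨Fin.castAdd d' j, by simp⟩) b
  have hKS : K ≤ algCl (k := k) S' := IntermediateField.adjoin_le_iff.2 (by
    rintro _ ⟨b, rfl⟩; exact hχ b)
  have hall : ∀ i, t i ∈ algCl (k := k) S' := fun i => by
    obtain ⟨c, hc⟩ := hs i
    rw [show t i = c₀ i + ∑ j, c j • s j from sub_eq_iff_eq_add'.1 hc]
    refine add_mem (neg_mem (sum_mem fun l _ => mul_mem (hχ _) (hχ _))) (sum_mem fun j _ => ?_)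
    rw [IntermediateField.smul_def, smul_eq_mul]
    exact mul_mem (hKS (c j).2) (subset_algCl _ ⟨Fin.natAdd d j, by simp⟩)
  have := card_le_of_mem_algCl _ t hind hall
  omega

theorem repr_D_const_mul {ι : Type} (e : Module.Basis ι B Ω[B⁄k]) (c : k) (b : B) (j : ι) :
    e.repr (D k B (algebraMap k B c * b)) j = algebraMap k B c * e.repr (D k B b) j := by
  rw [Derivation.leibniz, Derivation.map_algebraMap, smul_zero, add_zero, map_smul, Finsupp.smul_apply, smul_eq_mul]

/-- A hypersurface whose differential vanishes nowhere on it is smooth. -/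
theorem smooth_quotient [Algebra.Smooth k B] {ι : Type} [Fintype ι] (e : Module.Basis ι B Ω[B⁄k]) (F : B)
    (h : ∀ n : Ideal B, n.IsMaximal → F ∈ n → ∃ j, e.repr (D k B F) j ∉ n) :
    Algebra.Smooth k (B ⧸ Ideal.span {F}) := by
  classical
  let A := B ⧸ Ideal.span {F}
  have htop : (Ideal.span {F} ⊔ Ideal.span (Set.range fun j => e.repr (D k B F) j)) = ⊤ := by
    by_contra hne
    obtain ⟨n, hn, hle⟩ := Ideal.exists_le_maximal _ hne
    obtain ⟨j, hj⟩ := h n hn (hle (Ideal.mem_sup_left (Ideal.mem_span_singleton_self F)))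
    exact hj (hle (Ideal.mem_sup_right (Ideal.subset_span ⟨j, rfl⟩)))
  obtain ⟨f, hf, p, hp, hfp⟩ := Submodule.mem_sup.1 ((Ideal.eq_top_iff_one _).1 htop)
  obtain ⟨a, ha⟩ := Ideal.mem_span_range_iff_exists_fun.1 hp
  have hsurj : Function.Surjective (algebraMap B A) := Ideal.Quotient.mk_surjective
  let I := RingHom.ker (algebraMap B A)
  have hI : I = Ideal.span {F} := Ideal.mk_ker
  have hFI : F ∈ I := hI ▸ Ideal.mem_span_singleton_self F
  let φ : Ω[B⁄k] →ₗ[B] B := ∑ j, a j • e.coord j
  have hφ : φ (D k B F) = p := by simp [φ, ← ha]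
  let cF : I.Cotangent := I.toCotangent ⟨F, hFI⟩
  have hker : Ideal.span {F} ≤ LinearMap.ker (LinearMap.toSpanSingleton B I.Cotangent cF) := by
    rw [Ideal.span_le, Set.singleton_subset_iff]
    show F • cF = 0
    rw [← map_smul, Ideal.toCotangent_eq_zero]
    rw [pow_two]
    exact Ideal.mul_mem_mul hFI hFI
  let θ : A →ₗ[B] I.Cotangent := (Ideal.span {F}).liftQ _ hker
  let l : A ⊗[B] Ω[B⁄k] →ₗ[B] I.Cotangent :=
    θ ∘ₗ (TensorProduct.rid B A).toLinearMap ∘ₗ LinearMap.lTensor A φ
  haveI : Algebra.FormallySmooth k A :=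
    (Algebra.FormallySmooth.iff_split_injection (R := k) (P := B) (A := A) hsurj).2 ⟨l, LinearMap.ext fun x => by
      obtain ⟨⟨y, hy⟩, rfl⟩ := Ideal.toCotangent_surjective I x
      obtain ⟨b, rfl⟩ := Ideal.mem_span_singleton'.1 (hI ▸ hy : y ∈ Ideal.span {F})
      rw [LinearMap.comp_apply, kerCotangentToTensor_toCotangent, LinearMap.id_apply]
      simp only [l, LinearMap.comp_apply, LinearMap.lTensor_tmul, LinearEquiv.coe_coe, TensorProduct.rid_tmul,
        Derivation.leibniz, map_add, map_smul, hφ, smul_eq_mul]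
      rw [show θ (1 : A) = cF from (Submodule.liftQ_apply _ _ (1 : B)).trans (one_smul B cF)]
      have hf1 : f • cF = 0 := hker hf
      have hF0 : F • cF = 0 := hker (Ideal.mem_span_singleton_self F)
      have hp1 : p • cF = cF := by
        have h1 := congrArg (· • cF) hfp
        simp only [add_smul, one_smul, hf1, zero_add] at h1
        exact h1
      rw [add_smul, mul_smul, hp1, mul_comm F, mul_smul, hF0, smul_zero, add_zero, ← map_smul]
      rfl⟩
  haveI : Algebra.FinitePresentation k A :=
    haveI : Algebra.FinitePresentation k B := inferInstance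
    Algebra.FinitePresentation.quotient (Submodule.fg_span_singleton F)
  exact ⟨inferInstance, inferInstance⟩

/-- Bertini from first-order jets: if some fixed family spans the first-order jets at every closed point,
the generic member of an affine system spanned by it cuts out a smooth hypersurface. -/
theorem exists_poly_smooth [IsAlgClosed k] [Algebra.Smooth k B] {d m : ℕ}
    (g : MvPolynomial (Fin d) k →ₐ[k] B) (hg : g.Etale) (x : Fin m → B) (f₀ : B)
    (hjet : ∀ n : Ideal B, n.IsMaximal → ∀ b : B, ∃ (c : Fin m → k) (s : B), s ∉ n ∧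
      s * ((∑ i, algebraMap k B (c i) * x i) - b) ∈ n ^ 2) :
    ∃ q : MvPolynomial (Fin m) k, q ≠ 0 ∧ ∀ c : Fin m → k, MvPolynomial.eval c q ≠ 0 →
      Algebra.Smooth k (B ⧸ Ideal.span {f₀ + ∑ i, algebraMap k B (c i) * x i}) := by
  classical
  obtain ⟨e, he⟩ := exists_basis g hg
  let J : B → Fin (d + 1) → B := fun b => Fin.cons b fun j => e.repr (D k B b) j
  have hJadd : ∀ (c : Fin m → k) l, J (∑ i, algebraMap k B (c i) * x i) l =
      ∑ i, algebraMap k B (c i) * J (x i) l := fun c l => by
    refine Fin.cases ?_ (fun j => ?_) l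
    · simp [J]
    · simp only [J, Fin.cons_succ, map_sum, Finsupp.finsetSum_apply, repr_D_const_mul]
  have hchar : ∀ n : Ideal B, n.IsMaximal → ∃ χ : B →ₐ[k] k, ∀ b, b ∈ n ↔ χ b = 0 := fun n hn => by
    haveI := hn
    haveI : Algebra.FiniteType k B := inferInstance
    letI := Ideal.Quotient.field n
    haveI : Algebra.FiniteType k (B ⧸ n) := Algebra.FiniteType.of_surjective (Ideal.Quotient.mkₐ k n) Ideal.Quotient.mk_surjective
    haveI : Module.Finite k (B ⧸ n) := finite_of_finite_type_of_isJacobsonRing k (B ⧸ n)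
    have hb := IsAlgClosed.algebraMap_bijective_of_isIntegral (k := k) (K := B ⧸ n)
    let eq : k ≃ₐ[k] B ⧸ n := AlgEquiv.ofBijective (Algebra.ofId k (B ⧸ n)) hb
    refine ⟨eq.symm.toAlgHom.comp (Ideal.Quotient.mkₐ k n), fun b => ?_⟩
    simp [Ideal.Quotient.eq_zero_iff_mem]
  have hD : ∀ (n : Ideal B) (a : B), a ∈ n ^ 2 → ∀ j, e.repr (D k B a) j ∈ n := fun n a ha j => by
    rw [pow_two] at ha
    refine Submodule.mul_induction_on ha (fun p hp q hq => ?_) fun p q hp hq => ?_
    · simp only [Derivation.leibniz, map_add, map_smul, Finsupp.add_apply, Finsupp.smul_apply, smul_eq_mul]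
      exact add_mem (n.mul_mem_right _ hp) (n.mul_mem_right _ hq)
    · simp only [map_add, Finsupp.add_apply]
      exact add_mem hp hq
  have hjet' : ∀ n : Ideal B, n.IsMaximal → ∀ s a : B, s ∉ n → s * a ∈ n ^ 2 → ∀ l, J a l ∈ n := by
    intro n hn s a hs ha
    have han : a ∈ n := (hn.isPrime.mem_or_mem (Ideal.pow_le_self two_ne_zero ha)).resolve_left hs
    intro l
    refine Fin.cases ?_ (fun j => ?_) l
    · simpa [J] using han
    · have h1 := hD n _ ha j
      simp only [Derivation.leibniz, map_add, map_smul, Finsupp.add_apply, Finsupp.smul_apply, smul_eq_mul] at h1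
      have h2 : s * e.repr (D k B a) j ∈ n :=
        (n.add_mem_iff_left (n.mul_mem_right _ han)).1 h1
      simpa [J] using (hn.isPrime.mem_or_mem h2).resolve_left hs
  obtain ⟨N, hN⟩ := exists_rightInverse (fun l i => J (x i) l) fun n hn w => by
    obtain ⟨χ, hχ⟩ := hchar n hn
    let y : Fin d → B := fun j => g (MvPolynomial.X j) - algebraMap k B (χ (g (MvPolynomial.X j)))
    let b : B := algebraMap k B (χ (w 0)) + ∑ j, algebraMap k B (χ (w j.succ)) * y j
    obtain ⟨c, s, hs, hc⟩ := hjet n hn b
    refine ⟨fun i => algebraMap k B (c i), fun l => ?_⟩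
    have hl := hjet' n hn s _ hs hc l
    have hsub : J ((∑ i, algebraMap k B (c i) * x i) - b) l =
        (∑ i, algebraMap k B (c i) * J (x i) l) - J b l := by
      rw [← hJadd]
      refine Fin.cases ?_ (fun j => ?_) l <;> simp [J]
    rw [hsub] at hl
    have hb : J b l - w l ∈ n := by
      refine Fin.cases ?_ (fun j => ?_) l
      · rw [hχ]
        simp [J, b, y, map_sum]
      · rw [hχ]
        have : e.repr (D k B b) j = algebraMap k B (χ (w j.succ)) := by
          simp only [b, map_add, map_sum, Finsupp.add_apply, Finsupp.finsetSum_apply, repr_D_const_mul,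
            Derivation.map_algebraMap, map_zero, Finsupp.coe_zero, Pi.zero_apply, zero_add]
          rw [Finset.sum_eq_single j (fun i _ hi => by simp [y, he, hi]) (fun h => absurd (Finset.mem_univ j) h)]
          simp [y, he]
        simp [J, this]
    convert n.add_mem hl hb using 1
    ring
  obtain ⟨q, hq0, hq⟩ := exists_poly g hg _ N hN (J f₀)
  refine ⟨q, hq0, fun c hc => smooth_quotient e _ fun n hn hF => ?_⟩
  by_contra hall
  push Not at hall
  obtain ⟨χ, hχ⟩ := hchar n hn
  refine hc (hq χ c fun l => ?_)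
  have h1 : J (f₀ + ∑ i, algebraMap k B (c i) * x i) l ∈ n := by
    refine Fin.cases ?_ (fun j => ?_) l
    · simpa [J] using hF
    · simpa [J] using hall j
  have h2 : J (f₀ + ∑ i, algebraMap k B (c i) * x i) l = J f₀ l + ∑ i, algebraMap k B (c i) * J (x i) l := by
    rw [← hJadd]
    refine Fin.cases ?_ (fun j => ?_) l <;> simp [J]
  rw [h2, hχ] at h1
  simpa [map_sum, mul_comm] using h1

end Groth.Agent.H11Bertini
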